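import Cfsg.Agent.Lib.Coprime.Abelian
import Cfsg.Agent.Lib.UniqueInvolution
import Cfsg.Agent.Lib.Thompson.QuaternionSection
import Cfsg.Agent.Lib.ZassSL25.CoreFree
import Cfsg.Agent.Lib.PGroupFrattini
import Mathlib.GroupTheory.SemidirectProduct
import Mathlib.GroupTheory.Frattini
import Cfsg.Prelude

/-!
An elementary group of order `p^2` acting on a 2-group so that each non-identity element fixes at most one involution.
-/

set_option autoImplicit false

namespace Cfsg.Agent.Lib.TwoFix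

open Subgroup

variable {W : Type*} [Group W] [Finite W]

/-- Generation by fixed points, for a subgroup of automorphisms. -/
theorem gen {r : ℕ} (hr : r.Prime) (B : Subgroup (MulAut W)) (hBc : ∀ x ∈ B, ∀ y ∈ B, x * y = y * x)
    (hexp : ∀ x ∈ B, x ^ r = 1) (hB : Nat.card B = r ^ 2) (hcop : (Nat.card B).Coprime (Nat.card W))
    (X : Subgroup W) (hX : ∀ b ∈ B, b ≠ 1 → ∀ w, b w = w → w ∈ X) : X = ⊤ := by
  haveI : Finite (W ⋊[B.subtype] B) := Finite.of_equiv _ SemidirectProduct.equivProd.symm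
  set K := (SemidirectProduct.inl (φ := B.subtype)).range with hK
  set A := (SemidirectProduct.inr (φ := B.subtype)).range with hA
  have hAc : ∀ x ∈ A, ∀ y ∈ A, x * y = y * x := by
    rintro _ ⟨x, rfl⟩ _ ⟨y, rfl⟩
    rw [← map_mul, ← map_mul]
    exact congrArg _ (Subtype.ext (hBc x x.2 y y.2))
  have hAexp : ∀ x ∈ A, x ^ r = 1 := by
    rintro _ ⟨x, rfl⟩
    rw [← map_pow, show x ^ r = 1 from Subtype.ext (hexp x x.2), map_one]
  have hAcard : Nat.card A = r ^ 2 := by
    rw [hA, ← Nat.card_congr (MonoidHom.ofInjective SemidirectProduct.inr_injective).toEquiv, hB]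
  have hKcard : Nat.card K = Nat.card W := by
    rw [hK, ← Nat.card_congr (MonoidHom.ofInjective SemidirectProduct.inl_injective).toEquiv]
  have hAK : A ≤ normalizer (K : Set (W ⋊[B.subtype] B)) := by
    haveI : K.Normal := by rw [hK, SemidirectProduct.range_inl_eq_ker_rightHom]; infer_instance
    rw [normalizer_eq_top (H := K)]
    exact le_top
  have hgen := Coprime.fixGen_eq_of_elementary hr hAc hAexp hAcard hAK (by rw [hAcard, hKcard, ← hB]; exact hcop)
  have hle : Coprime.fixGen A K ≤ X.map (SemidirectProduct.inl (φ := B.subtype)) := by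
    refine iSup₂_le fun a ha => ?_
    obtain ⟨⟨b, rfl⟩, hb1⟩ := ha
    rintro _ ⟨⟨w, rfl⟩, hw⟩
    refine mem_map_of_mem _ (hX b b.2 (fun h => hb1 (by rw [show b = 1 from Subtype.ext h, map_one])) w ?_)
    have h := mem_centralizer_singleton_iff.1 hw
    have h2 : SemidirectProduct.inl ((B.subtype b) w) = (SemidirectProduct.inl (φ := B.subtype) w) := by
      rw [SemidirectProduct.inl_aut, map_inv, ← h, mul_inv_cancel_right]
    exact SemidirectProduct.inl_injective h2
  rw [eq_top_iff]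
  intro w _
  obtain ⟨v, hv, hvw⟩ := hle (hgen.ge (⟨w, rfl⟩ : SemidirectProduct.inl w ∈ K))
  rw [← SemidirectProduct.inl_injective hvw]
  exact hv

theorem qeight_fix_check : ∀ pr : QuaternionGroup 2 × QuaternionGroup 2, ZassSL25.QEightPair pr →
    ∀ x : QuaternionGroup 2, x ^ 2 ≠ 1 → ZassSL25.qeightFun pr x = x →
      ∀ q, (ZassSL25.qeightFun pr)^[4] q = q := by
  decide +kernel

/-- An automorphism of odd order of `Q₈` fixing an element of order four is trivial. -/
theorem qeight_fix {σ : MulAut (QuaternionGroup 2)} (hσ : Odd (orderOf σ)) {x : QuaternionGroup 2} (hx : x ^ 2 ≠ 1)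
    (hfix : σ x = x) : σ = 1 := by
  have hfun : (⇑σ) = ZassSL25.qeightFun (σ (.a 1), σ (.xa 0)) := funext (ZassSL25.qeight_apply σ).2
  have h4 : σ ^ 4 = 1 := MulEquiv.ext fun q => by
    have h : ∀ (n : ℕ) (x : QuaternionGroup 2), (σ ^ n) x = (⇑σ)^[n] x := by
      intro n
      induction n with
      | zero => intro x; rfl
      | succ n ih => intro x; rw [pow_succ, MulAut.mul_apply, ih, Function.iterate_succ_apply]
    rw [h, MulAut.one_apply, hfun]
    exact qeight_fix_check _ (ZassSL25.qeight_apply σ).1 x hx (by rw [← hfun]; exact hfix) q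
  have h := orderOf_dvd_of_pow_eq_one h4
  rw [show (4 : ℕ) = 2 ^ 2 from rfl, Nat.dvd_prime_pow Nat.prime_two] at h
  obtain ⟨j, -, hj⟩ := h
  rcases Nat.eq_zero_or_pos j with rfl | hj0
  · exact orderOf_eq_one_iff.1 (by simpa using hj)
  · rw [hj] at hσ
    exact absurd hσ (Nat.not_odd_iff_even.2 ((Nat.even_pow).2 ⟨even_two, hj0.ne'⟩))

/-- A 2-group with one involution and an automorphism of odd order moving something is `Q₈`. -/
theorem unique_invol_moved {C : Type*} [Group C] [Finite C] (hC : IsPGroup 2 C)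
    (huniq : ∀ x y : C, orderOf x = 2 → orderOf y = 2 → x = y) {σ : MulAut C} (hσ : Odd (orderOf σ)) (hne : σ ≠ 1) :
    Nat.card C = 8 ∧ Nonempty (C ≃* QuaternionGroup 2) ∧
      ∀ x : C, x ^ 2 ≠ 1 → σ x ≠ x := by
  haveI := Fact.mk Nat.prime_two
  have hcop : (orderOf σ).Coprime 2 := Nat.coprime_two_right.2 hσ
  have hu : ∀ H K : Subgroup C, Nat.card H = 2 → Nat.card K = 2 → H = K := by
    intro H K hH hK
    have key : ∀ H : Subgroup C, Nat.card H = 2 → ∃ x, orderOf x = 2 ∧ H = zpowers x := fun H hH => by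
      obtain ⟨x, hx⟩ := exists_prime_orderOf_dvd_card' (G := H) 2 hH.symm.dvd
      refine ⟨x, by rw [orderOf_coe, hx], (eq_of_le_of_card_ge (zpowers_le.2 x.2) ?_).symm⟩
      rw [Nat.card_zpowers, orderOf_coe, hx, hH]
    obtain ⟨x, hx, rfl⟩ := key H hH
    obtain ⟨y, hy, rfl⟩ := key K hK
    rw [huniq x y hx hy]
  rcases UniqueInvolution.isCyclic_or_quaternion hC hu with h | ⟨-, n, hn, ⟨e⟩⟩
  · haveI := h
    exact absurd (Thompson.Quat.aut_cyclic_trivial hC σ hcop) hne
  let τ : MulAut (QuaternionGroup (2 ^ n)) := MulAut.congr e σ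
  have hτ : orderOf τ = orderOf σ := MulEquiv.orderOf_eq (MulAut.congr e) σ
  have hτ1 : τ ≠ 1 := fun h => hne (by
    have : MulAut.congr e σ = MulAut.congr e 1 := by rw [map_one]; exact h
    exact (MulAut.congr e).injective this)
  have hn1 : n = 1 := by
    by_contra h1
    haveI : NeZero (2 ^ n) := ⟨pow_ne_zero n two_ne_zero⟩
    refine hτ1 (Thompson.Quat.aut_big_trivial ?_ (hC.of_equiv e) τ (hτ ▸ hcop))
    exact le_trans (by norm_num) (Nat.pow_le_pow_right (by norm_num) (show 2 ≤ n by omega))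
  subst hn1
  refine ⟨(Nat.card_congr e.toEquiv).trans (by rw [Nat.card_eq_fintype_card, QuaternionGroup.card]; rfl), ⟨e⟩,
    fun x hx hfix => hτ1 (qeight_fix (σ := τ) (hτ ▸ hσ) (x := e x) ?_ ?_)⟩
  · intro h
    exact hx (e.injective (by rw [map_pow, h, map_one]))
  · show e (σ (e.symm (e x))) = e x
    rw [e.symm_apply_apply, hfix]

variable {p : ℕ} [hp : Fact p.Prime]

/-- The hypotheses. -/
structure Hyp (p : ℕ) (E : Subgroup (MulAut W)) : Prop where
  two : IsPGroup 2 W
  odd : p ≠ 2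
  pgroup : IsPGroup p E
  comm : ∀ x ∈ E, ∀ y ∈ E, x * y = y * x
  noncyclic : ¬ IsCyclic E
  fix : ∀ e ∈ E, e ≠ 1 → ∀ x y : W, orderOf x = 2 → orderOf y = 2 → e x = x → e y = y → x = y

/-- The fixed points of an automorphism. -/
def Fix (e : MulAut W) : Subgroup W := (e : W →* W).eqLocus (MonoidHom.id W)

omit [Finite W] in
theorem mem_fix {e : MulAut W} {w : W} : w ∈ Fix e ↔ e w = w := Iff.rfl

theorem main {E : Subgroup (MulAut W)} (h : Hyp p E) :
    Nat.card E = 9 ∧ Cfsg.IsExtraspecial 2 W ∧ (Nat.card W = 2 ^ 5 ∨ Nat.card W = 2 ^ 7 ∨ Nat.card W = 2 ^ 9) ∧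
      {x : W | ∀ e ∈ E, e x = x} = (center W : Set W) := by
  classical
  haveI := Fact.mk Nat.prime_two
  haveI : IsMulCommutative E := ⟨⟨fun a b => Subtype.ext (h.comm a a.2 b b.2)⟩⟩
  -- an elementary subgroup of order `p ^ 2`
  obtain ⟨r, B, hr, hBE, hBexp, hB⟩ := Coprime.exists_elementary_sq h.noncyclic
  obtain ⟨kE, hkE⟩ := IsPGroup.iff_card.1 h.pgroup
  obtain ⟨kW, hkW⟩ := IsPGroup.iff_card.1 h.two
  have hrp : r = p := by
    have := card_dvd_of_le hBE
    rw [hB, hkE] at this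
    exact (Nat.prime_dvd_prime_iff_eq hr hp.out).1 (hr.dvd_of_dvd_pow ((dvd_pow_self r two_ne_zero).trans this))
  subst hrp
  have hcop : (Nat.card B).Coprime (Nat.card W) := by
    rw [hB, hkW]
    exact ((Nat.coprime_primes hr Nat.prime_two).2 h.odd).pow _ _
  have hgen := gen hr B (fun x hx y hy => h.comm x (hBE hx) y (hBE hy)) hBexp hB hcop
  have hodd : ∀ (e : MulAut W) (he : e ∈ E) {C : Type _} [Group C] (f : E →* MulAut C), Odd (orderOf (f ⟨e, he⟩)) := by
    intro e he C _ f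
    obtain ⟨n, hn⟩ := h.pgroup ⟨e, he⟩
    exact Odd.of_dvd_nat ((hr.odd_of_ne_two h.odd).pow)
      ((orderOf_map_dvd f ⟨e, he⟩).trans (orderOf_dvd_of_pow_eq_one hn))
  -- `E` acts on the fixed points of its elements
  have hinv : ∀ a ∈ E, ∀ e ∈ E, ∀ w ∈ Fix a, e w ∈ Fix a := fun a ha e he w hw => by
    show a (e w) = e w
    rw [← MulAut.mul_apply, h.comm a ha e he, MulAut.mul_apply, mem_fix.1 hw]
  let act : ∀ a ∈ E, E →* MulAut (Fix a) := fun a ha =>
    { toFun := fun e =>
        { toFun := fun w => ⟨(e : MulAut W) w, hinv a ha e e.2 w w.2⟩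
          invFun := fun w => ⟨((e⁻¹ : E) : MulAut W) w, hinv a ha _ (e⁻¹).2 w w.2⟩
          left_inv := fun w => Subtype.ext ((e : MulAut W).symm_apply_apply _)
          right_inv := fun w => Subtype.ext ((e : MulAut W).apply_symm_apply _)
          map_mul' := fun x y => Subtype.ext (map_mul (e : MulAut W) _ _) }
      map_one' := MulEquiv.ext fun w => Subtype.ext rfl
      map_mul' := fun x y => MulEquiv.ext fun w => Subtype.ext rfl }
  let D : Subgroup W := ⨅ e : E, Fix (e : MulAut W)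
  have memD : ∀ {w}, w ∈ D ↔ ∀ e ∈ E, e w = w := fun {w} => by
    simp [D, mem_iInf, mem_fix]
  have hcases : ∀ a ∈ E, a ≠ 1 → Fix a ≤ D ∨
      (Nat.card (Fix a) = 8 ∧ (∃ z, orderOf z = 2 ∧ z ∈ Fix a) ∧
        (∀ w ∈ Fix a, (∀ v ∈ Fix a, w * v = v * w) → w * w = 1) ∧
        (∃ e ∈ E, ∀ w ∈ Fix a, w * w ≠ 1 → e w ≠ w) ∧
        ∀ e ∈ E, (∃ w ∈ Fix a, w * w ≠ 1 ∧ e w = w) → ∀ w ∈ Fix a, e w = w) := by
    intro a ha ha1
    by_cases htriv : ∀ e : E, act a ha e = 1
    · left
      intro w hw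
      exact memD.2 fun e he => congrArg Subtype.val (DFunLike.congr_fun (htriv ⟨e, he⟩) ⟨w, hw⟩)
    push Not at htriv
    obtain ⟨⟨e, he⟩, hne⟩ := htriv
    have hu : ∀ x y : Fix a, orderOf x = 2 → orderOf y = 2 → x = y := fun x y hx hy =>
      Subtype.ext (h.fix a ha ha1 x y (by rw [orderOf_coe, hx]) (by rw [orderOf_coe, hy]) x.2 y.2)
    obtain ⟨h8, ⟨φ⟩, hmv⟩ := unique_invol_moved (h.two.to_subgroup _) hu (hodd e he (act a ha)) hne
    refine Or.inr ⟨h8, ⟨(φ.symm (.a 2) : Fix a), ?_, (φ.symm (.a 2) : Fix a).2⟩, fun w hw hc => ?_, ⟨e, he, fun w hw hw2 hfx => ?_⟩, ?_⟩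
    · rw [orderOf_coe, MulEquiv.orderOf_eq]
      exact orderOf_eq_prime (by decide) (by decide)
    · have h1 : ∀ v, φ ⟨w, hw⟩ * v = v * φ ⟨w, hw⟩ := fun v => by
        obtain ⟨v, rfl⟩ := φ.surjective v
        rw [← map_mul, ← map_mul]
        exact congrArg φ (Subtype.ext (hc v v.2))
      have hdec : ∀ u : QuaternionGroup 2, (∀ v, u * v = v * u) → u * u = 1 := by decide
      have h2 : (⟨w, hw⟩ : Fix a) * ⟨w, hw⟩ = 1 := φ.injective (by rw [map_mul, hdec _ h1, map_one])
      exact congrArg Subtype.val h2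
    · refine hmv ⟨w, hw⟩ (fun h2 => hw2 ?_) (Subtype.ext hfx)
      rw [pow_two] at h2
      exact congrArg Subtype.val h2
    · rintro e' he' ⟨v, hv, hv2, hfx⟩ w hw
      by_contra hne'
      have hne'' : act a ha ⟨e', he'⟩ ≠ 1 := fun h1 => hne' (congrArg Subtype.val (DFunLike.congr_fun h1 ⟨w, hw⟩))
      obtain ⟨-, -, hmv'⟩ := unique_invol_moved (h.two.to_subgroup _) hu (hodd e' he' (act a ha)) hne''
      refine hmv' ⟨v, hv⟩ (fun h2 => hv2 ?_) (Subtype.ext hfx)
      rw [pow_two] at h2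
      exact congrArg Subtype.val h2
  -- some element has `Q₈` as fixed points
  obtain ⟨a₀, ha₀, ha₀1, hQ₀⟩ : ∃ a ∈ B, a ≠ 1 ∧ ¬ Fix a ≤ D := by
    by_contra! hno
    have hD : D = ⊤ := hgen D fun b hb hb1 w hw => hno b hb hb1 hw
    refine h.noncyclic ?_
    haveI : Subsingleton E := ⟨fun x y => by
      have : ∀ e : E, e = 1 := fun e => Subtype.ext (MulEquiv.ext fun w => memD.1 (hD ▸ mem_top w) e e.2)
      rw [this x, this y]⟩
    infer_instance
  obtain ⟨h80, ⟨z, hz, hz0⟩, hcen0, ⟨e₀, he₀, hmv0⟩, -⟩ := (hcases a₀ (hBE ha₀) ha₀1).resolve_left hQ₀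
  have hzz : z * z = 1 := by rw [← pow_two, ← hz, pow_orderOf_eq_one]
  have hz1 : z ≠ 1 := fun h => by rw [h, orderOf_one] at hz; omega
  have hzD : z ∈ D := memD.2 fun e he => h.fix a₀ (hBE ha₀) ha₀1 (e z) z (by rw [MulEquiv.orderOf_eq]; exact hz) hz
    (hinv a₀ (hBE ha₀) e he z hz0) hz0
  have hDfix : ∀ a ∈ E, D ≤ Fix a := fun a ha w hw => memD.1 hw a ha
  have hDeq : ∀ w, w ∈ D ↔ w = 1 ∨ w = z := fun w => by
    refine ⟨fun hw => ?_, fun hw => hw.elim (fun e => e ▸ one_mem D) (fun e => e ▸ hzD)⟩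
    by_cases hw1 : w = 1
    · exact Or.inl hw1
    have hw2 : w * w = 1 := by
      by_contra h2
      exact hmv0 w (hDfix a₀ (hBE ha₀) hw) h2 (memD.1 hw e₀ he₀)
    exact Or.inr (h.fix a₀ (hBE ha₀) ha₀1 w z (orderOf_eq_prime (by rw [pow_two, hw2]) hw1) hz
      (memD.1 hw a₀ (hBE ha₀)) hz0)
  have hsq : ∀ a ∈ E, a ≠ 1 → ∀ w ∈ Fix a, w * w = 1 → w ∈ D := fun a ha ha1 w hw hw2 => by
    refine (hDeq w).2 (or_iff_not_imp_left.2 fun hw1 => ?_)
    exact h.fix a ha ha1 w z (orderOf_eq_prime (by rw [pow_two, hw2]) hw1) hz hw (memD.1 hzD a ha)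
  have hsqne : ∀ a ∈ E, a ≠ 1 → ∀ w ∈ Fix a, w ∉ D → w * w ≠ 1 := fun a ha ha1 w hw hwD h2 => hwD (hsq a ha ha1 w hw h2)
  -- elements fixing a `Q₈` have the same fixed points
  have hsame : ∀ a ∈ E, a ≠ 1 → ¬ Fix a ≤ D → ∀ b ∈ E, b ≠ 1 → ∀ w ∈ Fix a, w ∉ D → b w = w → Fix a = Fix b := by
    intro a ha ha1 haQ b hb hb1 w hw hwD hbw
    obtain ⟨h8, -, -, -, hall⟩ := (hcases a ha ha1).resolve_left haQ
    have hle : Fix a ≤ Fix b := fun v hv => hall b hb ⟨w, hw, hsqne a ha ha1 w hw hwD, hbw⟩ v hv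
    have hbQ : ¬ Fix b ≤ D := fun hh => hwD (hh hbw)
    obtain ⟨h8', -⟩ := (hcases b hb hb1).resolve_left hbQ
    exact eq_of_le_of_card_ge hle (by rw [h8, h8'])
  -- invariant subgroups meet a `Q₈` trivially or contain it
  have hwhole : ∀ a ∈ E, a ≠ 1 → ¬ Fix a ≤ D → ∀ S : Subgroup W, (∀ e ∈ E, ∀ w ∈ S, e w ∈ S) → D ≤ S →
      ∀ w ∈ Fix a, w ∈ S → w ∉ D → Fix a ≤ S := by
    intro a ha ha1 haQ S hS hDS w hw hwS hwD
    obtain ⟨h8, -, -, ⟨e, he, hmv⟩, -⟩ := (hcases a ha ha1).resolve_left haQ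
    have hin : Nat.card (S ⊓ Fix a : Subgroup W) ∣ 2 ^ 3 := by rw [← show Nat.card (Fix a) = 2 ^ 3 from h8]; exact card_dvd_of_le inf_le_right
    obtain ⟨j, hj, e1⟩ := (Nat.dvd_prime_pow Nat.prime_two).1 hin
    have h5 : 4 < Nat.card (S ⊓ Fix a : Subgroup W) := by
      have hsub : ({1, z, w, e w, e (e w)} : Set W) ⊆ ((S ⊓ Fix a : Subgroup W) : Set W) := by
        rintro t (rfl | rfl | rfl | rfl | rfl)
        · exact one_mem _
        · exact ⟨hDS hzD, hDfix a ha hzD⟩
        · exact ⟨hwS, hw⟩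
        · exact ⟨hS e he _ hwS, hinv a ha e he _ hw⟩
        · exact ⟨hS e he _ (hS e he _ hwS), hinv a ha e he _ (hinv a ha e he _ hw)⟩
      have hw' := hsqne a ha ha1 w hw hwD
      have n1 : e w ≠ w := hmv w hw hw'
      have nD : ∀ t, t ∉ D → e t ∉ D := fun t ht h1 => ht (by
        rw [← e.injective (memD.1 h1 e he)]; exact h1)
      have d1 := nD w hwD
      have d2 := nD _ d1
      have n2 : e (e w) ≠ w := by
        intro h2
        obtain ⟨n, hn⟩ := h.pgroup ⟨e, he⟩
        obtain ⟨i, hi⟩ : Odd (r ^ n) := (hr.odd_of_ne_two h.odd).pow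
        have hn' : e ^ r ^ n = 1 := congrArg Subtype.val hn
        have h3 : ∀ i : ℕ, (e ^ (2 * i)) w = w := fun i => by
          induction i with
          | zero => rfl
          | succ i ih =>
            rw [show 2 * (i + 1) = 2 * i + 1 + 1 by ring, pow_succ, pow_succ, MulAut.mul_apply, MulAut.mul_apply, h2, ih]
        refine n1 ?_
        have h4 : (e ^ r ^ n) w = w := by rw [hn']; rfl
        rwa [hi, pow_succ', MulAut.mul_apply, h3] at h4
      have n3 : e (e w) ≠ e w := fun h2 => n1 (e.injective h2)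
      have hne' : ∀ t, t ∉ D → t ≠ 1 ∧ t ≠ z := fun t ht => ⟨fun h1 => ht (h1 ▸ one_mem D), fun h1 => ht (h1 ▸ hzD)⟩
      refine lt_of_lt_of_le ?_ ((Set.ncard_le_ncard hsub (Set.toFinite _)).trans (le_of_eq (Nat.card_coe_set_eq _).symm))
      rw [Set.ncard_insert_of_notMem, Set.ncard_insert_of_notMem, Set.ncard_insert_of_notMem, Set.ncard_pair n3.symm] <;>
        simp [hz1.symm, (hne' w hwD).1.symm, (hne' w hwD).2.symm, (hne' _ d1).1.symm, (hne' _ d1).2.symm,
          (hne' _ d2).1.symm, (hne' _ d2).2.symm, n1.symm, n2.symm]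
    have hge : Nat.card (Fix a) ≤ Nat.card (S ⊓ Fix a : Subgroup W) := by
      rw [h8]
      rw [e1] at h5 ⊢
      interval_cases j <;> omega
    exact (eq_of_le_of_card_ge inf_le_right hge).ge.trans inf_le_left
  -- the centre
  have hZinv : ∀ e ∈ E, ∀ w ∈ center W, e w ∈ center W := fun e _ w hw => mem_center_iff.2 fun g => by
    conv_lhs => rw [← e.apply_symm_apply g]
    conv_rhs => rw [← e.apply_symm_apply g]
    rw [← map_mul, ← map_mul, mem_center_iff.1 hw]
  have hgenS : ∀ S : Subgroup W, (∀ e ∈ E, ∀ w ∈ S, e w ∈ S) → ∀ T : Subgroup W,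
      (∀ b ∈ B, b ≠ 1 → ∀ w ∈ S, b w = w → w ∈ T) → S ≤ T := by
    intro S hS T hT
    let f : B →* MulAut S :=
      { toFun := fun e =>
          { toFun := fun w => ⟨(e : MulAut W) w, hS e (hBE e.2) w w.2⟩
            invFun := fun w => ⟨((e⁻¹ : B) : MulAut W) w, hS _ (hBE (e⁻¹).2) w w.2⟩
            left_inv := fun w => Subtype.ext ((e : MulAut W).symm_apply_apply _)
            right_inv := fun w => Subtype.ext ((e : MulAut W).apply_symm_apply _)
            map_mul' := fun x y => Subtype.ext (map_mul (e : MulAut W) _ _) }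
        map_one' := MulEquiv.ext fun w => Subtype.ext rfl
        map_mul' := fun x y => MulEquiv.ext fun w => Subtype.ext rfl }
    by_cases hinj : Function.Injective f
    · have hcard : Nat.card f.range = r ^ 2 := by rw [← Nat.card_congr (MonoidHom.ofInjective hinj).toEquiv, hB]
      have := gen hr f.range (by
          rintro _ ⟨x, rfl⟩ _ ⟨y, rfl⟩
          rw [← map_mul, ← map_mul]
          exact congrArg f (Subtype.ext (h.comm x (hBE x.2) y (hBE y.2))))
        (by rintro _ ⟨x, rfl⟩; rw [← map_pow, show x ^ r = 1 from Subtype.ext (hBexp x x.2), map_one]) hcard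
        (by rw [hcard, ← hB]; exact hcop.coprime_dvd_right (card_subgroup_dvd_card S)) (T.subgroupOf S) (by
          rintro _ ⟨b, rfl⟩ hb1 w hw
          refine mem_subgroupOf.2 (hT b b.2 (fun h1 => hb1 ?_) w w.2 (congrArg Subtype.val hw))
          rw [show b = 1 from Subtype.ext h1, map_one])
      exact subgroupOf_eq_top.1 this
    · obtain ⟨b, hb, hb1⟩ : ∃ b, f b = 1 ∧ b ≠ 1 := by
        by_contra! hh
        exact hinj ((injective_iff_map_eq_one f).2 hh)
      exact fun w hw => hT b b.2 (fun h1 => hb1 (Subtype.ext h1)) w hw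
        (congrArg Subtype.val (DFunLike.congr_fun hb ⟨w, hw⟩))
  have hZ : center W = D := by
    refine le_antisymm (hgenS _ hZinv D fun b hb hb1 w hw hbw => ?_) ?_
    · rcases hcases b (hBE hb) hb1 with hle | ⟨-, -, hcen, -, -⟩
      · exact hle hbw
      · exact hsq b (hBE hb) hb1 w hbw (hcen w hbw fun v _ => (mem_center_iff.1 hw v).symm)
    · intro w hw
      rcases (hDeq w).1 hw with h1 | h1
      · rw [h1]; exact one_mem _
      subst h1
      have hcz : centralizer ({w} : Set W) = ⊤ := by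
        refine hgen _ fun b hb hb1 v hv => ?_
        rw [mem_centralizer_singleton_iff]
        have hvi : v * w * v⁻¹ * (v * w * v⁻¹) = 1 := by
          rw [show v * w * v⁻¹ * (v * w * v⁻¹) = v * (w * w) * v⁻¹ by group, hzz, mul_one, mul_inv_cancel]
        have := h.fix b (hBE hb) hb1 (v * w * v⁻¹) w (orderOf_eq_prime (by rw [pow_two, hvi])
          (fun h1 => hz1 (conj_eq_one_iff.1 h1))) hz (by rw [map_mul, map_mul, map_inv, hv, memD.1 hzD b (hBE hb)])
          (memD.1 hzD b (hBE hb))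
        exact mul_inv_eq_iff_eq_mul.1 this
      exact mem_center_iff.2 fun g => mem_centralizer_singleton_iff.1 (hcz ▸ mem_top g)
  -- the second centre
  let U : Subgroup W :=
    { carrier := {w | ∀ g, w * g * w⁻¹ * g⁻¹ ∈ D}
      one_mem' := fun g => by simp
      mul_mem' := fun {x y} hx hy g => by
        rw [show x * y * g * (x * y)⁻¹ * g⁻¹ = x * (y * g * y⁻¹ * g⁻¹) * x⁻¹ * (x * g * x⁻¹ * g⁻¹) by group]
        refine mul_mem ?_ (hx g)
        rw [← hZ] at hy ⊢
        rw [mem_center_iff.1 (hy g) x, mul_inv_cancel_right]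
        exact hy g
      inv_mem' := fun {x} hx g => by
        have := inv_mem (hx (x⁻¹ * g * x))
        rwa [show (x * (x⁻¹ * g * x) * x⁻¹ * (x⁻¹ * g * x)⁻¹)⁻¹ = x⁻¹ * g * x⁻¹⁻¹ * g⁻¹ by group] at this }
  have hUinv : ∀ e ∈ E, ∀ w ∈ U, e w ∈ U := fun e he w hw g => by
    have := hw (e.symm g)
    have h2 : e (w * e.symm g * w⁻¹ * (e.symm g)⁻¹) = w * e.symm g * w⁻¹ * (e.symm g)⁻¹ := memD.1 this e he
    simp only [map_mul, map_inv, MulEquiv.apply_symm_apply] at h2
    rw [h2]; exact this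
  have hDU : D ≤ U := fun w hw g => by
    rw [← hZ] at hw ⊢
    rw [← mem_center_iff.1 hw g, mul_inv_cancel_right, mul_inv_cancel]
    exact one_mem _
  -- commuting fixed-point groups
  have hclaim : ∀ a ∈ E, a ≠ 1 → Fix a ≤ U → ∀ b ∈ E, b ≠ 1 → Fix a ≠ Fix b → ∀ x ∈ Fix a, ∀ y ∈ Fix b, x * y = y * x := by
    intro a ha ha1 haU b hb hb1 hne
    by_cases haQ : Fix a ≤ D
    · intro x hx y _
      exact (mem_center_iff.1 (hZ ▸ haQ hx : x ∈ center W) y).symm
    obtain ⟨h8, -, hcen, -, -⟩ := (hcases a ha ha1).resolve_left haQ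
    let S : Subgroup W := Fix a ⊓ centralizer (Fix b : Set W)
    suffices Fix a ≤ S from fun x hx y hy => (mem_centralizer_iff.1 (this hx).2 y hy).symm
    obtain ⟨x, hx, hxD⟩ : ∃ x ∈ Fix a, x ∉ D := SetLike.not_le_iff_exists.1 haQ
    have hbx : b x ≠ x := fun hh => hne (hsame a ha ha1 haQ b hb hb1 x hx hxD hh)
    have hw : x⁻¹ * b x ∈ Fix a := mul_mem (inv_mem hx) (hinv a ha b hb x hx)
    refine hwhole a ha ha1 haQ S (fun e he w hw' => ⟨hinv a ha e he w hw'.1, mem_centralizer_iff.2 fun y hy => ?_⟩)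
      (fun w hw' => ⟨hDfix a ha hw', mem_centralizer_iff.2 fun y _ => mem_center_iff.1 (hZ ▸ hw' : w ∈ center W) y⟩)
      (x⁻¹ * b x) hw ⟨hw, mem_centralizer_iff.2 fun y hy => ?_⟩ (fun hD' => hbx ?_)
    · have h1 := mem_centralizer_iff.1 hw'.2 _ (hinv b hb _ (inv_mem he) y hy)
      have h2 := congrArg e h1
      simp only [map_mul, ← MulAut.mul_apply, mul_inv_cancel, MulAut.one_apply] at h2
      exact h2
    · have hc : x * y * x⁻¹ * y⁻¹ ∈ D := haU hx y
      have h1 : b (x * y * x⁻¹ * y⁻¹) = x * y * x⁻¹ * y⁻¹ := memD.1 hc b hb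
      simp only [map_mul, map_inv, mem_fix.1 hy] at h1
      have h2 : b x * y * (b x)⁻¹ = x * y * x⁻¹ := mul_right_cancel h1
      calc y * (x⁻¹ * b x) = x⁻¹ * (x * y * x⁻¹) * b x := by group
        _ = x⁻¹ * b x * y := by rw [← h2]; group
    · have hfx : b (x⁻¹ * b x) = x⁻¹ * b x := memD.1 hD' b hb
      obtain ⟨n, hn⟩ := h.pgroup ⟨b, hb⟩
      refine Thompson.eq_self_of_coprime h.two (a := b) ?_ hfx
      refine Nat.Coprime.coprime_dvd_left (orderOf_dvd_of_pow_eq_one (congrArg Subtype.val hn : b ^ r ^ n = 1)) ?_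
      exact Nat.Coprime.pow_left _ ((Nat.coprime_primes hr Nat.prime_two).2 h.odd)
  -- everything lies in the second centre
  let S₀ : Set W := {w | ∃ b ∈ B, b ≠ 1 ∧ ¬ Fix b ≤ U ∧ w ∈ Fix b}
  set V := closure S₀
  have hUtop : U = ⊤ := by
    refine hgen U fun b hb hb1 w hw => ?_
    by_contra hwU
    have hVU : ∀ v ∈ V, ∀ u ∈ U, u * v = v * u := by
      intro v hv u hu
      have hle : V ≤ centralizer (U : Set W) := by
        refine (closure_le _).2 ?_
        rintro v ⟨b', hb', hb'1, hb'U, hv⟩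
        refine mem_centralizer_iff.2 fun u hu => ?_
        have hle' : U ≤ centralizer ({v} : Set W) := by
          refine hgenS U hUinv _ fun b'' hb'' hb''1 u hu hfu => mem_centralizer_singleton_iff.2 ?_
          by_cases hQ : Fix b'' ≤ U
          · exact hclaim b'' (hBE hb'') hb''1 hQ b' (hBE hb') hb'1 (fun hh => hb'U (hh ▸ hQ)) u hfu v hv
          · have huD : u ∈ D := by
              by_contra huD
              exact hQ (hwhole b'' (hBE hb'') hb''1 (fun hh => huD (hh hfu)) U hUinv hDU u hfu hu huD)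
            rw [← hZ] at huD
            exact (mem_center_iff.1 huD v).symm
        exact mem_centralizer_singleton_iff.1 (hle' hu)
      exact mem_centralizer_iff.1 (hle hv) u hu
    have hUV : U ⊔ V = ⊤ := hgen _ fun b' hb' hb'1 v hv => by
      by_cases hQ : Fix b' ≤ U
      · exact mem_sup_left (hQ hv)
      · exact mem_sup_right (subset_closure ⟨b', hb', hb'1, hQ, hv⟩)
    have hwV : w ∈ V := subset_closure ⟨b, hb, hb1, fun hh => hwU (hh hw), hw⟩
    have hVD : D.subgroupOf V = ⊤ := by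
      haveI : (D.subgroupOf V).Normal := by
        haveI : D.Normal := hZ ▸ inferInstance
        exact inferInstance
      by_contra hne
      haveI : Nontrivial (V ⧸ D.subgroupOf V) := by
        rw [← not_subsingleton_iff_nontrivial, QuotientGroup.subsingleton_iff]
        exact hne
      obtain ⟨q, hq, hq1⟩ := (bot_or_exists_ne_one _).resolve_left
        ((nontrivial_iff_ne_bot _).1 ((h.two.to_subgroup V).to_quotient (D.subgroupOf V)).center_nontrivial)
      obtain ⟨v, rfl⟩ := QuotientGroup.mk'_surjective _ q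
      have hvU : (v : W) ∈ U := by
        have hcomm : ∀ g ∈ V, (v : W) * g * (v : W)⁻¹ * g⁻¹ ∈ D := fun g hg => by
          have h1 := mem_center_iff.1 hq (QuotientGroup.mk' _ ⟨g, hg⟩)
          have h2 : v * ⟨g, hg⟩ * v⁻¹ * (⟨g, hg⟩ : V)⁻¹ ∈ D.subgroupOf V := by
            refine (QuotientGroup.eq_one_iff _).1 ?_
            show QuotientGroup.mk' _ (v * ⟨g, hg⟩ * v⁻¹ * (⟨g, hg⟩ : V)⁻¹) = 1
            rw [map_mul, map_mul, map_mul, ← h1, map_inv, map_inv, mul_inv_cancel_right, mul_inv_cancel]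
          exact mem_subgroupOf.1 h2
        intro g
        have hg : g ∈ U ⊔ V := hUV ▸ mem_top g
        rw [sup_eq_closure] at hg
        induction hg using closure_induction with
        | mem t ht =>
          rcases ht with ht | ht
          · rw [← hVU v v.2 t ht, mul_inv_cancel_right, mul_inv_cancel]; exact one_mem _
          · exact hcomm t ht
        | one => simp
        | mul s t _ _ hs ht =>
          rw [show (v : W) * (s * t) * (v : W)⁻¹ * (s * t)⁻¹ =
            ((v : W) * s * (v : W)⁻¹ * s⁻¹) * (s * ((v : W) * t * (v : W)⁻¹ * t⁻¹) * s⁻¹) by group]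
          refine mul_mem hs ?_
          rw [← hZ] at ht ⊢
          rw [mem_center_iff.1 ht s, mul_inv_cancel_right]
          exact ht
        | inv s _ hs =>
          rw [show (v : W) * s⁻¹ * (v : W)⁻¹ * s⁻¹⁻¹ = s⁻¹ * ((v : W) * s * (v : W)⁻¹ * s⁻¹)⁻¹ * s by group]
          rw [← hZ] at hs ⊢
          rw [mem_center_iff.1 (inv_mem hs) s⁻¹, inv_mul_cancel_right]
          exact inv_mem hs
      refine hq1 ((QuotientGroup.eq_one_iff _).2 (mem_subgroupOf.2 (hZ ▸ mem_center_iff.2 fun g => ?_)))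
      have hg : g ∈ U ⊔ V := hUV ▸ mem_top g
      have hle : U ⊔ V ≤ centralizer ({(v : W)} : Set W) :=
        sup_le (fun u hu => mem_centralizer_singleton_iff.2 (hVU v v.2 u hu))
          (fun u hu => mem_centralizer_singleton_iff.2 (hVU u hu v hvU).symm)
      exact mem_centralizer_singleton_iff.1 (hle hg)
    exact hwU (hDU (subgroupOf_eq_top.1 hVD hwV))
  have hclaim' : ∀ a ∈ E, a ≠ 1 → ∀ b ∈ E, b ≠ 1 → Fix a ≠ Fix b → ∀ x ∈ Fix a, ∀ y ∈ Fix b, x * y = y * x :=
    fun a ha ha1 => hclaim a ha ha1 (hUtop ▸ le_top)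
  -- two different groups
  obtain ⟨a₁, ha₁, ha₁1, hQ₁, hne01⟩ : ∃ a ∈ B, a ≠ 1 ∧ ¬ Fix a ≤ D ∧ Fix a ≠ Fix a₀ := by
    by_contra! hno
    have htop : Fix a₀ = ⊤ := hgen _ fun b hb hb1 w hw => by
      by_cases hQ : Fix b ≤ D
      · exact hDfix a₀ (hBE ha₀) (hQ hw)
      · rw [← hno b hb hb1 hQ]; exact hw
    exact ha₀1 (MulEquiv.ext fun w => (htop ▸ mem_top w : w ∈ Fix a₀))
  -- the order of `E`
  obtain ⟨hr3, hE9⟩ : r = 3 ∧ Nat.card E ∣ 9 := by
    have key : ∀ a ∈ B, a ≠ 1 → ¬ Fix a ≤ D → ∀ haE : a ∈ E, r = 3 ∧ (act a haE).range ≠ ⊥ ∧ Nat.card (act a haE).range = 3 := by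
      intro a ha ha1 haQ haE
      obtain ⟨h8, -, -, ⟨e, he, hmv⟩, hall⟩ := (hcases a haE ha1).resolve_left haQ
      obtain ⟨x, hx, hxD⟩ : ∃ x ∈ Fix a, x ∉ D := SetLike.not_le_iff_exists.1 haQ
      let orb : (act a haE).range → ↥((Fix a : Set W) \ (D : Set W)) := fun σ => ⟨(σ.1 ⟨x, hx⟩).1, by
        obtain ⟨e', he'⟩ := σ.2
        refine ⟨(σ.1 ⟨x, hx⟩).2, fun hh => hxD ?_⟩
        have h1 : (e' : MulAut W) x = ((σ.1 ⟨x, hx⟩ : Fix a) : W) :=
          congrArg (fun τ : MulAut (Fix a) => ((τ ⟨x, hx⟩ : Fix a) : W)) he'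
        rw [SetLike.mem_coe, ← h1] at hh
        rwa [← (e' : MulAut W).injective (memD.1 hh e' e'.2 : (e' : MulAut W) ((e' : MulAut W) x) = (e' : MulAut W) x)]⟩
      have horb : Function.Injective orb := by
        rintro ⟨σ, e1, rfl⟩ ⟨τ, e2, rfl⟩ hst
        have hst' : (e1 : MulAut W) x = (e2 : MulAut W) x := congrArg Subtype.val hst
        have hfix : ((e2⁻¹ * e1 : E) : MulAut W) x = x := by
          show ((e2 : MulAut W)⁻¹ * (e1 : MulAut W)) x = x
          rw [MulAut.mul_apply, hst', ← MulAut.mul_apply, inv_mul_cancel, MulAut.one_apply]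
        refine Subtype.ext (MulEquiv.ext fun w => Subtype.ext ?_)
        have := hall _ (e2⁻¹ * e1 : E).2 ⟨x, hx, hsqne a haE ha1 x hx hxD, hfix⟩ w w.2
        show (e1 : MulAut W) w = (e2 : MulAut W) w
        have h2 := congrArg (e2 : MulAut W) this
        simp only [coe_mul, coe_inv, MulAut.mul_apply] at h2
        rwa [← MulAut.mul_apply, mul_inv_cancel, MulAut.one_apply] at h2
      have hle6 : Nat.card (act a haE).range ≤ 6 := by
        refine (Nat.card_le_card_of_injective orb horb).trans ?_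
        rw [Nat.card_coe_set_eq, Set.ncard_sdiff (hDfix a haE), ← Nat.card_coe_set_eq]
        show Nat.card (Fix a) - _ ≤ 6
        rw [h8]
        have : 2 ≤ (D : Set W).ncard := by
          rw [← Set.ncard_pair hz1.symm]
          exact Set.ncard_le_ncard (by rintro t (rfl | rfl); exacts [one_mem _, hzD]) (Set.toFinite _)
        omega
      have hbot : (act a haE).range ≠ ⊥ := fun hb => hmv x hx (hsqne a haE ha1 x hx hxD) (by
        have h1 : act a haE ⟨e, he⟩ = 1 := mem_bot.1 (hb ▸ ⟨⟨e, he⟩, rfl⟩)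
        exact congrArg Subtype.val (DFunLike.congr_fun h1 ⟨x, hx⟩))
      obtain ⟨m, hm⟩ := IsPGroup.iff_card.1 (h.pgroup.of_surjective (act a haE).rangeRestrict (act a haE).rangeRestrict_surjective)
      have h2 : 2 ≤ r := hr.two_le
      have h3 : r ≠ 2 := h.odd
      have hm1 : m = 1 := by
        rcases Nat.lt_or_ge m 1 with hm0 | hm0
        · exact absurd (card_eq_one.1 (by rw [hm, show m = 0 by omega, pow_zero])) hbot
        rcases Nat.lt_or_ge m 2 with hm2 | hm2
        · omega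
        have : r ^ 2 ≤ 6 := (Nat.pow_le_pow_right (by omega) hm2).trans (hm ▸ hle6)
        have h9 : 3 ^ 2 ≤ r ^ 2 := Nat.pow_le_pow_left (by omega) 2
        omega
      rw [hm1, pow_one] at hm
      have hrr : r = 3 := by
        rw [hm] at hle6
        have : r = 3 ∨ r = 5 := by
          interval_cases r <;> first | omega | norm_num at hr
        rcases this with h5 | h5
        · exact h5
        · exfalso
          subst h5
          -- five does not act freely on six points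
          let g : Subgroup (MulAut (Fix a)) := (act a haE).range
          letI : MulAction g (↥((Fix a : Set W) \ (D : Set W))) :=
            { smul := fun σ t => ⟨(σ.1 ⟨t.1, t.2.1⟩).1, by
                obtain ⟨e', he'⟩ := σ.2
                refine ⟨(σ.1 ⟨t.1, t.2.1⟩).2, fun hh => t.2.2 ?_⟩
                have h1 : (e' : MulAut W) t.1 = ((σ.1 ⟨t.1, t.2.1⟩ : Fix a) : W) :=
                  congrArg (fun τ : MulAut (Fix a) => ((τ ⟨t.1, t.2.1⟩ : Fix a) : W)) he'
                rw [SetLike.mem_coe, ← h1] at hh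
                rwa [← (e' : MulAut W).injective (memD.1 hh e' e'.2 : (e' : MulAut W) ((e' : MulAut W) t.1) = (e' : MulAut W) t.1)]⟩
              one_smul := fun t => Subtype.ext rfl
              mul_smul := fun σ τ t => Subtype.ext rfl }
          haveI := Fact.mk (show Nat.Prime 5 by norm_num)
          have hmod := (IsPGroup.of_card (n := 1) (by rw [pow_one]; exact hm) : IsPGroup 5 g).card_modEq_card_fixedPoints
            (↥((Fix a : Set W) \ (D : Set W)))
          have h0 : Nat.card (MulAction.fixedPoints g (↥((Fix a : Set W) \ (D : Set W)))) = 0 := by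
            rw [Nat.card_eq_zero]
            refine Or.inl ⟨fun t => hmv t.1.1 t.1.2.1 (hsqne a haE ha1 _ t.1.2.1 t.1.2.2) ?_⟩
            exact congrArg Subtype.val (t.2 ⟨act a haE ⟨e, he⟩, ⟨e, he⟩, rfl⟩)
          have h6 : Nat.card (↥((Fix a : Set W) \ (D : Set W))) = 6 := by
            rw [Nat.card_coe_set_eq, Set.ncard_sdiff (hDfix a haE)]
            have hD2 : (D : Set W) = {1, z} := Set.ext fun t => hDeq t
            rw [hD2, Set.ncard_pair hz1.symm, ← Nat.card_coe_set_eq]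
            show Nat.card (Fix a) - 2 = 6
            rw [h8]
          rw [h0, h6] at hmod
          exact absurd hmod (by decide)
      exact ⟨hrr, hbot, hm.trans hrr⟩
    refine ⟨(key a₀ ha₀ ha₀1 hQ₀ (hBE ha₀)).1, ?_⟩
    let f := (act a₀ (hBE ha₀)).rangeRestrict.prod (act a₁ (hBE ha₁)).rangeRestrict
    have hf : Function.Injective f := by
      refine (injective_iff_map_eq_one f).2 fun e he => by_contra fun he1 => hne01 ?_
      have he1' : (e : MulAut W) ≠ 1 := fun hh => he1 (Subtype.ext hh)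
      have h0 : act a₀ (hBE ha₀) e = 1 := congrArg Subtype.val (congrArg Prod.fst he)
      have h1 : act a₁ (hBE ha₁) e = 1 := congrArg Subtype.val (congrArg Prod.snd he)
      obtain ⟨x, hx, hxD⟩ : ∃ x ∈ Fix a₀, x ∉ D := SetLike.not_le_iff_exists.1 hQ₀
      obtain ⟨y, hy, hyD⟩ : ∃ x ∈ Fix a₁, x ∉ D := SetLike.not_le_iff_exists.1 hQ₁
      rw [hsame a₀ (hBE ha₀) ha₀1 hQ₀ e e.2 he1' x hx hxD (congrArg Subtype.val (DFunLike.congr_fun h0 ⟨x, hx⟩)),
        hsame a₁ (hBE ha₁) ha₁1 hQ₁ e e.2 he1' y hy hyD (congrArg Subtype.val (DFunLike.congr_fun h1 ⟨y, hy⟩))]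
    have := card_dvd_of_injective f hf
    rwa [Nat.card_prod, (key a₀ ha₀ ha₀1 hQ₀ (hBE ha₀)).2.2, (key a₁ ha₁ ha₁1 hQ₁ (hBE ha₁)).2.2] at this
  subst hr3
  have hE : Nat.card E = 9 := Nat.dvd_antisymm hE9 (by have := card_dvd_of_le hBE; rw [hB] at this; simpa using this)
  have hEB : B = E := eq_of_le_of_card_ge hBE (by rw [hE, hB]; norm_num)
  -- class two and exponent
  have hcomm : ∀ x y : W, x * y * x⁻¹ * y⁻¹ ∈ D := fun x y => (hUtop ▸ mem_top x : x ∈ U) y
  let T : Subgroup W :=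
    { carrier := {w | w * w ∈ D}
      one_mem' := by simp
      mul_mem' := fun {x y} hx hy => by
        show x * y * (x * y) ∈ D
        rw [show x * y * (x * y) = x * (y * x * y⁻¹ * x⁻¹) * x * (y * y) by group]
        refine mul_mem ?_ hy
        have hc := hcomm y x
        rw [← hZ] at hc hx ⊢
        rw [mem_center_iff.1 hc x, mul_assoc]
        exact mul_mem hc hx
      inv_mem' := fun {x} hx => by
        show x⁻¹ * x⁻¹ ∈ D
        rw [← mul_inv_rev]
        exact inv_mem hx }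
  have hT : T = ⊤ := hgen T fun b hb hb1 w hw => by
    show w * w ∈ D
    by_cases hQ : Fix b ≤ D
    · exact mul_mem (hQ hw) (hQ hw)
    · obtain ⟨h8, -, -, -, -⟩ := (hcases b (hBE hb) hb1).resolve_left hQ
      refine hsq b (hBE hb) hb1 _ (mul_mem hw hw) ?_
      have hexp : w ^ 4 = 1 := by
        have hd : orderOf w ∣ 2 ^ 3 := by
          have := Subgroup.orderOf_dvd_natCard (Fix b) hw
          rwa [h8] at this
        obtain ⟨j, hj, e1⟩ := (Nat.dvd_prime_pow Nat.prime_two).1 hd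
        by_cases hj2 : j ≤ 2
        · exact orderOf_dvd_iff_pow_eq_one.1 (e1 ▸ (pow_dvd_pow 2 hj2))
        · exfalso
          have hj3 : j = 3 := by omega
          subst hj3
          obtain ⟨-, -, hcen, -, -⟩ := (hcases b (hBE hb) hb1).resolve_left hQ
          have hgenw : zpowers w = Fix b := eq_of_le_of_card_ge (zpowers_le.2 hw) (by rw [Nat.card_zpowers, e1, h8]; norm_num)
          have h2 := hcen w hw fun v hv => by
            rw [← hgenw] at hv
            obtain ⟨i, rfl⟩ := hv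
            exact (Commute.refl w).zpow_right i
          have : orderOf w ≤ 2 := Nat.le_of_dvd two_pos (orderOf_dvd_of_pow_eq_one (by rw [pow_two]; exact h2))
          rw [e1] at this
          norm_num at this
      rw [show w * w * (w * w) = w ^ 4 by simp only [pow_succ, pow_zero, one_mul, mul_assoc], hexp]
  have hDz : D = zpowers z := le_antisymm (fun w hw => by
      rcases (hDeq w).1 hw with e | e
      · exact e ▸ one_mem _
      · exact e ▸ mem_zpowers z) (zpowers_le.2 hzD)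
  have hZcard : Nat.card (center W) = 2 := by rw [hZ, hDz, Nat.card_zpowers, hz]
  have hzcomm : z ∈ commutator W := by
    obtain ⟨x, hx, hxD⟩ : ∃ x ∈ Fix a₀, x ∉ D := SetLike.not_le_iff_exists.1 hQ₀
    have hx2 := hsqne a₀ (hBE ha₀) ha₀1 x hx hxD
    obtain ⟨y, -, hxy⟩ : ∃ y ∈ Fix a₀, x * y ≠ y * x := by
      by_contra! hall
      exact hx2 (hcen0 x hx hall)
    have hne : x * y * x⁻¹ * y⁻¹ ≠ 1 := fun h1 => hxy (by
      calc x * y = x * y * x⁻¹ * y⁻¹ * (y * x) := by group
        _ = y * x := by rw [h1, one_mul])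
    rw [← ((hDeq _).1 (hcomm x y)).resolve_left hne, _root_.commutator_def]
    exact commutator_mem_commutator (mem_top x) (mem_top y)
  have hcommle : commutator W ≤ D := by
    rw [_root_.commutator_def, commutator_le]
    exact fun x _ y _ => hcomm x y
  have hcommeq : commutator W = center W := le_antisymm (hZ ▸ hcommle) (by rw [hZ, hDz]; exact zpowers_le.2 hzcomm)
  have hfr : frattini W = center W := by
    refine le_antisymm (hZ ▸ PGroupFrattini.frattini_le Nat.prime_two D hcommle fun x => ?_)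
      (hcommeq ▸ PGroupFrattini.commutator_le_frattini h.two)
    have hx : x ∈ T := hT ▸ mem_top x
    rw [pow_two]
    exact hx
  have hex : Cfsg.IsExtraspecial 2 W := ⟨⟨h.two, hfr, hcommeq⟩, hZcard⟩
  -- the quaternion groups
  haveI : Fintype W := Fintype.ofFinite W
  haveI : Fintype B := Fintype.ofFinite B
  let s₀ : Finset B := Finset.univ.filter fun b => b ≠ 1 ∧ ¬ Fix (b : MulAut W) ≤ D
  let Qs : Finset (Subgroup W) := s₀.image fun b : B => Fix (b : MulAut W)
  have hQs : ∀ Q ∈ Qs, ∃ b ∈ B, b ≠ 1 ∧ ¬ Fix b ≤ D ∧ Fix b = Q := by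
    intro Q hQ
    obtain ⟨b, hb, rfl⟩ := Finset.mem_image.1 hQ
    obtain ⟨-, hb1, hbQ⟩ := Finset.mem_filter.1 hb
    exact ⟨b, b.2, fun e => hb1 (Subtype.ext e), hbQ, rfl⟩
  have hmemQs : ∀ b ∈ B, b ≠ 1 → ¬ Fix b ≤ D → Fix b ∈ Qs := fun b hb hb1 hbQ =>
    Finset.mem_image.2 ⟨⟨b, hb⟩, Finset.mem_filter.2 ⟨Finset.mem_univ _, fun e => hb1 (congrArg Subtype.val e), hbQ⟩, rfl⟩
  have hDcard : Nat.card D = 2 := by rw [← hZ]; exact hZcard
  have hjoin : ∀ t : Finset (Subgroup W), t ⊆ Qs → Nat.card ↥(D ⊔ t.sup id) = 2 ^ (2 * t.card + 1) := by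
    intro t
    induction t using Finset.induction with
    | empty => intro _; rw [Finset.sup_empty, sup_bot_eq, hDcard]; rfl
    | insert Q t hQt ih =>
      intro ht
      obtain ⟨hQ, ht'⟩ := Finset.insert_subset_iff.1 ht
      obtain ⟨b, hb, hb1, hbQ, rfl⟩ := hQs Q hQ
      obtain ⟨h8, -, hcen, -, -⟩ := (hcases b (hBE hb) hb1).resolve_left hbQ
      set J := D ⊔ t.sup id with hJ
      haveI : (Fix b).Normal := ⟨fun u hu g => by
        have := mul_mem (hDfix b (hBE hb) (hcomm g u)) hu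
        rwa [inv_mul_cancel_right] at this⟩
      have hle : J ≤ centralizer (Fix b : Set W) := by
        refine sup_le (fun w hw => mem_centralizer_iff.2 fun v _ => mem_center_iff.1 (hZ ▸ hw : w ∈ center W) v)
          (Finset.sup_le fun Q' hQ' => ?_)
        obtain ⟨b', hb', hb'1, -, rfl⟩ := hQs Q' (ht' hQ')
        exact fun u hu => mem_centralizer_iff.2 fun v hv =>
          hclaim' b (hBE hb) hb1 b' (hBE hb') hb'1 (fun e => hQt (e ▸ hQ')) v hv u hu
      have hinf : J ⊓ Fix b = D := le_antisymm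
        (fun w hw => hsq b (hBE hb) hb1 w hw.2
          (hcen w hw.2 fun v hv => (mem_centralizer_iff.1 (hle hw.1) v hv).symm))
        (le_inf le_sup_left (hDfix b (hBE hb)))
      have hc := Coprime.card_sup_mul_card_inf (Fix b) J
      rw [hinf, hDcard, ih ht', h8] at hc
      have heq : D ⊔ (insert (Fix b) t).sup id = J ⊔ Fix b := by
        rw [Finset.sup_insert, hJ]
        simp only [id]
        rw [sup_comm (Fix b), sup_assoc]
      rw [heq, Finset.card_insert_of_notMem hQt,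
        show 2 * (t.card + 1) + 1 = (2 * t.card + 1) + 1 + 1 by ring, pow_succ, pow_succ]
      omega
  have htop : D ⊔ Qs.sup id = ⊤ := hgen _ fun b hb hb1 w hw => by
    by_cases hQ : Fix b ≤ D
    · exact mem_sup_left (hQ hw)
    · exact mem_sup_right ((Finset.le_sup (f := id) (hmemQs b hb hb1 hQ) : Fix b ≤ Qs.sup id) hw)
  have hcardW : Nat.card W = 2 ^ (2 * Qs.card + 1) := by
    rw [← hjoin Qs subset_rfl, htop, card_top]
  have h2le : 2 ≤ Qs.card :=
    Finset.one_lt_card.2 ⟨_, hmemQs a₁ ha₁ ha₁1 hQ₁, _, hmemQs a₀ ha₀ ha₀1 hQ₀, hne01⟩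
  have hle4 : Qs.card ≤ 4 := by
    have h8' : s₀.card ≤ 8 := by
      have hsub : s₀ ⊆ Finset.univ.erase 1 := fun b hb =>
        Finset.mem_erase.2 ⟨(Finset.mem_filter.1 hb).2.1, Finset.mem_univ _⟩
      refine (Finset.card_le_card hsub).trans ?_
      rw [Finset.card_erase_of_mem (Finset.mem_univ _), Finset.card_univ, ← Nat.card_eq_fintype_card, hB]
      norm_num
    have hpair : 2 * Qs.card ≤ s₀.card := Finset.mul_card_image_le_card s₀ 2 fun Q hQ => by
      obtain ⟨b, hb, rfl⟩ := Finset.mem_image.1 hQ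
      have hfix' : Fix ((b⁻¹ : B) : MulAut W) = Fix (b : MulAut W) := by
        ext w
        rw [mem_fix, mem_fix, coe_inv]
        exact (MulEquiv.symm_apply_eq (b : MulAut W)).trans eq_comm
      obtain ⟨-, hb1, hbQ⟩ := Finset.mem_filter.1 hb
      have hbne : b ≠ b⁻¹ := fun e => hb1 (by
        have h3 : b ^ 3 = 1 := Subtype.ext (hBexp b b.2)
        have h2 : b ^ 2 = 1 := by rw [pow_two]; exact mul_eq_one_iff_eq_inv.2 e
        rwa [pow_succ, h2, one_mul] at h3)
      rw [← Finset.card_pair hbne]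
      refine Finset.card_le_card fun c hc => ?_
      simp only [Finset.mem_insert, Finset.mem_singleton] at hc
      rcases hc with rfl | rfl
      · exact Finset.mem_filter.2 ⟨hb, rfl⟩
      · exact Finset.mem_filter.2
          ⟨Finset.mem_filter.2 ⟨Finset.mem_univ _, inv_ne_one.2 hb1, hfix'.symm ▸ hbQ⟩, hfix'⟩
    omega
  refine ⟨hE, hex, ?_, ?_⟩
  · rw [hcardW]
    obtain hk | hk | hk : Qs.card = 2 ∨ Qs.card = 3 ∨ Qs.card = 4 := by omega
    all_goals simp [hk]
  · ext x
    rw [hZ]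
    exact memD.symm

end Cfsg.Agent.Lib.TwoFix
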